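import Mathlib

/-!
# Unique infinitesimal lifting for schemes: the affine case and gluing

`UL t f`: the unique lifting property of `f` against `t`; `UU t f`: uniqueness of lifts only.
-/

universe u

open AlgebraicGeometry CategoryTheory

namespace Groth.Agent.Helper2.FormalLib

/-- The unique lifting property of `f` against `t`. -/
def UL {T T' X Y : Scheme.{u}} (t : T ⟶ T') (f : X ⟶ Y) : Prop :=
  ∀ (a : T ⟶ X) (b : T' ⟶ Y), t ≫ b = a ≫ f → ∃! l : T' ⟶ X, t ≫ l = a ∧ l ≫ f = b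

/-- Uniqueness of lifts of `f` against `t`. -/
def UU {T T' X Y : Scheme.{u}} (t : T ⟶ T') (f : X ⟶ Y) : Prop :=
  ∀ (l l' : T' ⟶ X), t ≫ l = t ≫ l' → l ≫ f = l' ≫ f → l = l'

theorem UL.uu {T T' X Y : Scheme.{u}} {t : T ⟶ T'} {f : X ⟶ Y} (h : UL t f) : UU t f := by
  intro l l' h1 h2
  obtain ⟨m, -, hm⟩ := h (t ≫ l) (l ≫ f) (by simp)
  rw [hm l ⟨rfl, rfl⟩, hm l' ⟨h1.symm, h2.symm⟩]

/-- Invariance of `UL` under isomorphisms of the left arrow. -/
theorem UL.of_iso_left {T T' T₁ T₁' X Y : Scheme.{u}} {t : T ⟶ T'} {f : X ⟶ Y} (h : UL t f)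
    (e : T₁ ≅ T) (e' : T' ≅ T₁') : UL (e.hom ≫ t ≫ e'.hom) f := by
  intro a b w
  obtain ⟨l, ⟨h1, h2⟩, hl⟩ := h (e.inv ≫ a) (e'.hom ≫ b) (by
    rw [Category.assoc, ← w]; simp)
  refine ⟨e'.inv ≫ l, ⟨?_, ?_⟩, ?_⟩
  · simp only [Category.assoc, Iso.hom_inv_id_assoc]
    rw [h1]; simp
  · rw [Category.assoc, h2]; simp
  · rintro m ⟨hm1, hm2⟩
    rw [← hl (e'.hom ≫ m) ⟨?_, ?_⟩]
    · simp
    · rw [← hm1]; simp
    · rw [Category.assoc, hm2]

/-- Invariance of `UL` under isomorphisms of the right arrow. -/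
theorem UL.of_iso_right {T T' X Y X₁ Y₁ : Scheme.{u}} {t : T ⟶ T'} {f : X ⟶ Y} (h : UL t f)
    (e : X₁ ≅ X) (e' : Y ≅ Y₁) : UL t (e.hom ≫ f ≫ e'.hom) := by
  intro a b w
  obtain ⟨l, ⟨h1, h2⟩, hl⟩ := h (a ≫ e.hom) (b ≫ e'.inv) (by
    rw [reassoc_of% w]; simp)
  refine ⟨l ≫ e.inv, ⟨?_, ?_⟩, ?_⟩
  · rw [reassoc_of% h1]; simp
  · simp only [Category.assoc, Iso.inv_hom_id_assoc]
    rw [reassoc_of% h2]; simp
  · rintro m ⟨hm1, hm2⟩
    rw [← hl (m ≫ e.hom) ⟨?_, ?_⟩]
    · simp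
    · rw [reassoc_of% hm1]
    · rw [← hm2]; simp

/-- Invariance of `UU` under isomorphisms of the left arrow. -/
theorem UU.of_iso_left {T T' T₁ T₁' X Y : Scheme.{u}} {t : T ⟶ T'} {f : X ⟶ Y} (h : UU t f)
    (e : T₁ ≅ T) (e' : T' ≅ T₁') : UU (e.hom ≫ t ≫ e'.hom) f := by
  intro l l' h1 h2
  have := h (e'.hom ≫ l) (e'.hom ≫ l') ?_ (by simp only [Category.assoc, h2])
  · simpa using this
  · simp only [Category.assoc] at h1
    exact (cancel_epi e.hom).1 h1

/-- Invariance of `UU` under isomorphisms of the right arrow. -/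
theorem UU.of_iso_right {T T' X Y X₁ Y₁ : Scheme.{u}} {t : T ⟶ T'} {f : X ⟶ Y} (h : UU t f)
    (e : X₁ ≅ X) (e' : Y ≅ Y₁) : UU t (e.hom ≫ f ≫ e'.hom) := by
  intro l l' h1 h2
  have := h (l ≫ e.hom) (l' ≫ e.hom) (by rw [reassoc_of% h1]) ?_
  · simpa using this
  · simp only [← Category.assoc] at h2
    simpa using (cancel_mono e'.hom).1 h2


/-- Spec form of unique lifting for formally etale ring maps. -/
theorem ul_spec {R B A : Type u} [CommRing R] [CommRing B] [CommRing A] (φ : R →+* B)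
    (hφ : φ.FormallyEtale) (I : Ideal A) (hI : I ^ 2 = ⊥) :
    UL (Spec.map (CommRingCat.ofHom (Ideal.Quotient.mk I))) (Spec.map (CommRingCat.ofHom φ)) := by
  intro a b w
  obtain ⟨α, rfl⟩ := Spec.map_surjective a
  obtain ⟨β, rfl⟩ := Spec.map_surjective b
  have w' : β ≫ CommRingCat.ofHom (Ideal.Quotient.mk I) = CommRingCat.ofHom φ ≫ α :=
    Spec.map_injective (by simpa [Spec.map_comp] using w)
  letI : Algebra R B := φ.toAlgebra
  letI : Algebra R A := β.hom.toAlgebra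
  haveI : Algebra.FormallyEtale R B := hφ
  let α' : B →ₐ[R] A ⧸ I :=
    { α.hom with
      commutes' := fun r => by
        have := congr($(w').hom r)
        exact this.symm }
  obtain ⟨l, hl, huniq⟩ := (Algebra.FormallyEtale.comp_bijective R B I hI).existsUnique α'
  refine ⟨Spec.map (CommRingCat.ofHom l.toRingHom), ⟨?_, ?_⟩, ?_⟩
  · rw [← Spec.map_comp]
    congr 1
    ext x
    exact congr($hl x)
  · rw [← Spec.map_comp]
    congr 1
    ext r
    exact l.commutes r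
  · rintro m ⟨hm1, hm2⟩
    obtain ⟨μ, rfl⟩ := Spec.map_surjective m
    have e1 : μ ≫ CommRingCat.ofHom (Ideal.Quotient.mk I) = α :=
      Spec.map_injective (by simpa [Spec.map_comp] using hm1)
    have e2 : CommRingCat.ofHom φ ≫ μ = β :=
      Spec.map_injective (by simpa [Spec.map_comp] using hm2)
    let μ' : B →ₐ[R] A :=
      { μ.hom with
        commutes' := fun r => by
          have := congr($(e2).hom r)
          exact this }
    have : μ' = l := huniq μ' (by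
      ext x
      exact congr($(e1).hom x))
    congr 1
    ext x
    exact congr($this x)


/-- Spec form of uniqueness of lifts for formally unramified ring maps. -/
theorem uu_spec {R B A : Type u} [CommRing R] [CommRing B] [CommRing A] (φ : R →+* B)
    (hφ : φ.FormallyUnramified) (I : Ideal A) (hI : I ^ 2 = ⊥) :
    UU (Spec.map (CommRingCat.ofHom (Ideal.Quotient.mk I))) (Spec.map (CommRingCat.ofHom φ)) := by
  intro l l' h1 h2
  obtain ⟨μ, rfl⟩ := Spec.map_surjective l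
  obtain ⟨μ', rfl⟩ := Spec.map_surjective l'
  have e1 : μ ≫ CommRingCat.ofHom (Ideal.Quotient.mk I) =
      μ' ≫ CommRingCat.ofHom (Ideal.Quotient.mk I) :=
    Spec.map_injective (by simpa [Spec.map_comp] using h1)
  have e2 : CommRingCat.ofHom φ ≫ μ = CommRingCat.ofHom φ ≫ μ' :=
    Spec.map_injective (by simpa [Spec.map_comp] using h2)
  letI : Algebra R B := φ.toAlgebra
  letI : Algebra R A := (CommRingCat.ofHom φ ≫ μ).hom.toAlgebra
  haveI : Algebra.FormallyUnramified R B := hφ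
  let m : B →ₐ[R] A := { μ.hom with commutes' := fun r => rfl }
  let m' : B →ₐ[R] A :=
    { μ'.hom with
      commutes' := fun r => by
        have := congr($(e2).hom r)
        exact this.symm }
  have : m = m' := Algebra.FormallyUnramified.comp_injective I hI (by
    ext x
    exact congr($(e1).hom x))
  congr 1
  ext x
  exact congr($this x)

/-- Converse: unique lifting in Spec form gives a formally etale ring map. -/
theorem formallyEtale_of_ul_spec {R B : Type u} [CommRing R] [CommRing B] (φ : R →+* B)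
    (h : ∀ (A : Type u) [CommRing A] (I : Ideal A), I ^ 2 = ⊥ →
      UL (Spec.map (CommRingCat.ofHom (Ideal.Quotient.mk I))) (Spec.map (CommRingCat.ofHom φ))) :
    φ.FormallyEtale := by
  letI : Algebra R B := φ.toAlgebra
  change Algebra.FormallyEtale R B
  rw [Algebra.FormallyEtale.iff_comp_bijective]
  intro C _ _ J hJ
  have key : ∀ α : B →ₐ[R] C ⧸ J, ∃! l : B →ₐ[R] C, (Ideal.Quotient.mkₐ R J).comp l = α := by
    intro α
    obtain ⟨l, ⟨h1, h2⟩, hl⟩ := h C J hJ (Spec.map (CommRingCat.ofHom α.toRingHom))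
      (Spec.map (CommRingCat.ofHom (algebraMap R C))) (by
        rw [← Spec.map_comp, ← Spec.map_comp]
        congr 1
        ext r
        exact (α.commutes r).symm)
    obtain ⟨μ, rfl⟩ := Spec.map_surjective l
    have e1 : μ ≫ CommRingCat.ofHom (Ideal.Quotient.mk J) = CommRingCat.ofHom α.toRingHom :=
      Spec.map_injective (by simpa [Spec.map_comp] using h1)
    have e2 : CommRingCat.ofHom φ ≫ μ = CommRingCat.ofHom (algebraMap R C) :=
      Spec.map_injective (by simpa [Spec.map_comp] using h2)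
    let m : B →ₐ[R] C := { μ.hom with commutes' := fun r => congr($(e2).hom r) }
    refine ⟨m, ?_, ?_⟩
    · ext x
      exact congr($(e1).hom x)
    · intro m' hm'
      have := hl (Spec.map (CommRingCat.ofHom m'.toRingHom)) ⟨?_, ?_⟩
      · have this' := Spec.map_injective this
        ext x
        exact congr($(this').hom x)
      · rw [← Spec.map_comp]
        congr 1
        ext x
        exact congr($hm' x)
      · rw [← Spec.map_comp]
        congr 1
        ext r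
        exact m'.commutes r
  constructor
  · intro l l' hll
    obtain ⟨m, -, hm⟩ := key ((Ideal.Quotient.mkₐ R J).comp l)
    rw [hm l rfl, hm l' hll.symm]
  · intro α
    obtain ⟨l, hl, -⟩ := key α
    exact ⟨l, hl⟩

/-- Converse: uniqueness of lifts in Spec form gives a formally unramified ring map. -/
theorem formallyUnramified_of_uu_spec {R B : Type u} [CommRing R] [CommRing B] (φ : R →+* B)
    (h : ∀ (A : Type u) [CommRing A] (I : Ideal A), I ^ 2 = ⊥ →
      UU (Spec.map (CommRingCat.ofHom (Ideal.Quotient.mk I))) (Spec.map (CommRingCat.ofHom φ))) :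
    φ.FormallyUnramified := by
  letI : Algebra R B := φ.toAlgebra
  change Algebra.FormallyUnramified R B
  rw [Algebra.FormallyUnramified.iff_comp_injective]
  intro C _ _ J hJ l l' hll
  have := h C J hJ (Spec.map (CommRingCat.ofHom l.toRingHom))
    (Spec.map (CommRingCat.ofHom l'.toRingHom)) ?_ ?_
  · have this' := Spec.map_injective this
    ext x
    exact congr($(this').hom x)
  · rw [← Spec.map_comp, ← Spec.map_comp]
    congr 1
    ext x
    exact congr($hll x)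
  · rw [← Spec.map_comp, ← Spec.map_comp]
    congr 1
    ext r
    exact (l.commutes r).trans (l'.commutes r).symm


/-- A morphism of affine schemes which is surjective on global sections is, up to isomorphisms,
`Spec` of the quotient by the kernel. -/
theorem exists_iso_spec_quot {Z Z' : Scheme.{u}} [IsAffine Z] [IsAffine Z'] (t : Z ⟶ Z')
    (surj : Function.Surjective t.appTop.hom) :
    ∃ e : Z ≅ Spec (CommRingCat.of (Γ(Z', ⊤) ⧸ RingHom.ker t.appTop.hom)),
      t = e.hom ≫ Spec.map (CommRingCat.ofHom (Ideal.Quotient.mk (RingHom.ker t.appTop.hom))) ≫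
        Z'.isoSpec.inv := by
  let ē := RingHom.quotientKerEquivOfSurjective surj
  refine ⟨Z.isoSpec ≪≫ Scheme.Spec.mapIso ē.toCommRingCatIso.op, ?_⟩
  have h1 : t = Z.isoSpec.hom ≫ Spec.map t.appTop ≫ Z'.isoSpec.inv := by
    rw [Scheme.isoSpec_hom_naturality_assoc]; simp
  have h2 : t.appTop = CommRingCat.ofHom (Ideal.Quotient.mk (RingHom.ker t.appTop.hom)) ≫
      ē.toCommRingCatIso.hom := by
    ext x
    rfl
  conv_lhs => rw [h1, h2, Spec.map_comp]
  simp

/-- Unique lifting for morphisms of affine schemes: formally etale global sections against a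
square-zero surjection. -/
theorem ul_of_isAffine {Z Z' X Y : Scheme.{u}} [IsAffine Z] [IsAffine Z'] [IsAffine X] [IsAffine Y]
    (t : Z ⟶ Z') (f : X ⟶ Y) (surj : Function.Surjective t.appTop.hom)
    (sq : ∀ x y, t.appTop.hom x = 0 → t.appTop.hom y = 0 → x * y = 0)
    (hf : f.appTop.hom.FormallyEtale) : UL t f := by
  obtain ⟨e, he⟩ := exists_iso_spec_quot t surj
  have hI : RingHom.ker t.appTop.hom ^ 2 = ⊥ := by
    rw [pow_two, ← le_bot_iff, Ideal.mul_le]
    intro x hx y hy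
    exact sq x y hx hy
  have h0 := ul_spec f.appTop.hom hf _ hI
  have hf' : f = X.isoSpec.hom ≫ Spec.map (CommRingCat.ofHom f.appTop.hom) ≫ Y.isoSpec.inv := by
    rw [CommRingCat.ofHom_hom, Scheme.isoSpec_hom_naturality_assoc]; simp
  rw [he, hf']
  exact (h0.of_iso_left e Z'.isoSpec.symm).of_iso_right X.isoSpec Y.isoSpec.symm

/-- Uniqueness of lifts for morphisms of affine schemes. -/
theorem uu_of_isAffine {Z Z' X Y : Scheme.{u}} [IsAffine Z] [IsAffine Z'] [IsAffine X] [IsAffine Y]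
    (t : Z ⟶ Z') (f : X ⟶ Y) (surj : Function.Surjective t.appTop.hom)
    (sq : ∀ x y, t.appTop.hom x = 0 → t.appTop.hom y = 0 → x * y = 0)
    (hf : f.appTop.hom.FormallyUnramified) : UU t f := by
  obtain ⟨e, he⟩ := exists_iso_spec_quot t surj
  have hI : RingHom.ker t.appTop.hom ^ 2 = ⊥ := by
    rw [pow_two, ← le_bot_iff, Ideal.mul_le]
    intro x hx y hy
    exact sq x y hx hy
  have h0 := uu_spec f.appTop.hom hf _ hI
  have hf' : f = X.isoSpec.hom ≫ Spec.map (CommRingCat.ofHom f.appTop.hom) ≫ Y.isoSpec.inv := by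
    rw [CommRingCat.ofHom_hom, Scheme.isoSpec_hom_naturality_assoc]; simp
  rw [he, hf']
  exact (h0.of_iso_left e Z'.isoSpec.symm).of_iso_right X.isoSpec Y.isoSpec.symm


/-- Restricting a closed immersion with square-zero kernel to an affine open of the target. -/
theorem sqZero_restrict {T T' : Scheme.{u}} (t : T ⟶ T') [IsClosedImmersion t]
    (hk : t.ker * t.ker = ⊥) (W : T'.Opens) (hW : IsAffineOpen W) :
    Function.Surjective (t ∣_ W).appTop.hom ∧
      ∀ x y, (t ∣_ W).appTop.hom x = 0 → (t ∣_ W).appTop.hom y = 0 → x * y = 0 := by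
  have hWe : W.ι ''ᵁ ⊤ = W := by simp
  have hW' : IsAffineOpen (W.ι ''ᵁ ⊤) := by rw [hWe]; exact hW
  have hiso : Function.Bijective
      (T.presheaf.map (eqToHom (image_morphismRestrict_preimage t W ⊤)).op).hom :=
    ConcreteCategory.bijective_of_isIso _
  have key : ∀ x : Γ(T', W.ι ''ᵁ ⊤), (t ∣_ W).appTop.hom x =
      (T.presheaf.map (eqToHom (image_morphismRestrict_preimage t W ⊤)).op).hom
        ((t.app (W.ι ''ᵁ ⊤)).hom x) := fun x =>
    congr($(morphismRestrict_appTop t W).hom x)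
  constructor
  · intro y
    obtain ⟨y', rfl⟩ := hiso.2 y
    obtain ⟨x, rfl⟩ := t.app_surjective _ hW' y'
    exact ⟨x, key x⟩
  · intro x y hx hy
    have hx' : (t.app (W.ι ''ᵁ ⊤)).hom x = 0 := hiso.1 (by rw [← key x, map_zero]; exact hx)
    have hy' : (t.app (W.ι ''ᵁ ⊤)).hom y = 0 := hiso.1 (by rw [← key y, map_zero]; exact hy)
    have h1 : x ∈ t.ker.ideal ⟨_, hW'⟩ := by
      rw [Scheme.Hom.ker_apply]; exact hx'
    have h2 : y ∈ t.ker.ideal ⟨_, hW'⟩ := by
      rw [Scheme.Hom.ker_apply]; exact hy'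
    have h3 : x * y ∈ (t.ker * t.ker).ideal ⟨_, hW'⟩ := by
      rw [Scheme.IdealSheafData.ideal_mul]
      exact Ideal.mul_mem_mul h1 h2
    rw [hk, Scheme.IdealSheafData.ideal_bot] at h3
    exact h3

theorem formallyEtale_of_ringEquiv {R S : Type*} [CommRing R] [CommRing S] (e : R ≃+* S) :
    e.toRingHom.FormallyEtale := by
  let _ : Algebra R S := e.toRingHom.toAlgebra
  change Algebra.FormallyEtale R S
  exact Algebra.FormallyEtale.of_equiv (A := R) { e with commutes' := fun _ => rfl }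

theorem formallyUnramified_of_ringEquiv {R S : Type*} [CommRing R] [CommRing S] (e : R ≃+* S) :
    e.toRingHom.FormallyUnramified := by
  let _ : Algebra R S := e.toRingHom.toAlgebra
  change Algebra.FormallyUnramified R S
  exact Algebra.FormallyUnramified.of_equiv (A := R) { e with commutes' := fun _ => rfl }

/-- Global sections of `f.resLE` are formally etale when `f.appLE` is. -/
theorem formallyEtale_resLE_appTop {X Y : Scheme.{u}} (f : X ⟶ Y) (U : X.Opens) (V : Y.Opens)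
    (hUV : U ≤ f ⁻¹ᵁ V) (hf : (f.appLE V U hUV).hom.FormallyEtale) :
    (f.resLE V U hUV).appTop.hom.FormallyEtale := by
  have : (f.resLE V U hUV).appTop = V.topIso.hom ≫ f.appLE V U hUV ≫ U.topIso.inv :=
    Scheme.Hom.resLE_app_top f hUV
  rw [this, CommRingCat.hom_comp, CommRingCat.hom_comp]
  exact ((formallyEtale_of_ringEquiv V.topIso.commRingCatIsoToRingEquiv).comp hf).comp
    (formallyEtale_of_ringEquiv U.topIso.symm.commRingCatIsoToRingEquiv)

/-- Conversely. -/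
theorem formallyEtale_appLE_of_resLE {X Y : Scheme.{u}} (f : X ⟶ Y) (U : X.Opens) (V : Y.Opens)
    (hUV : U ≤ f ⁻¹ᵁ V) (hf : (f.resLE V U hUV).appTop.hom.FormallyEtale) :
    (f.appLE V U hUV).hom.FormallyEtale := by
  have h0 : (f.resLE V U hUV).appTop = V.topIso.hom ≫ f.appLE V U hUV ≫ U.topIso.inv :=
    Scheme.Hom.resLE_app_top f hUV
  have : f.appLE V U hUV = V.topIso.inv ≫ (f.resLE V U hUV).appTop ≫ U.topIso.hom := by
    rw [h0]
    simp only [Category.assoc, Iso.inv_hom_id, Category.comp_id, Iso.inv_hom_id_assoc]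
  rw [this, CommRingCat.hom_comp, CommRingCat.hom_comp]
  exact ((formallyEtale_of_ringEquiv V.topIso.symm.commRingCatIsoToRingEquiv).comp hf).comp
    (formallyEtale_of_ringEquiv U.topIso.commRingCatIsoToRingEquiv)


theorem formallyUnramified_resLE_appTop {X Y : Scheme.{u}} (f : X ⟶ Y) (U : X.Opens) (V : Y.Opens)
    (hUV : U ≤ f ⁻¹ᵁ V) (hf : (f.appLE V U hUV).hom.FormallyUnramified) :
    (f.resLE V U hUV).appTop.hom.FormallyUnramified := by
  have : (f.resLE V U hUV).appTop = V.topIso.hom ≫ f.appLE V U hUV ≫ U.topIso.inv :=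
    Scheme.Hom.resLE_app_top f hUV
  rw [this, CommRingCat.hom_comp, CommRingCat.hom_comp]
  exact ((formallyUnramified_of_ringEquiv V.topIso.commRingCatIsoToRingEquiv).comp hf).comp
    (formallyUnramified_of_ringEquiv U.topIso.symm.commRingCatIsoToRingEquiv)

theorem formallyUnramified_appLE_of_resLE {X Y : Scheme.{u}} (f : X ⟶ Y) (U : X.Opens)
    (V : Y.Opens) (hUV : U ≤ f ⁻¹ᵁ V) (hf : (f.resLE V U hUV).appTop.hom.FormallyUnramified) :
    (f.appLE V U hUV).hom.FormallyUnramified := by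
  have h0 : (f.resLE V U hUV).appTop = V.topIso.hom ≫ f.appLE V U hUV ≫ U.topIso.inv :=
    Scheme.Hom.resLE_app_top f hUV
  have : f.appLE V U hUV = V.topIso.inv ≫ (f.resLE V U hUV).appTop ≫ U.topIso.hom := by
    rw [h0]
    simp only [Category.assoc, Iso.inv_hom_id, Category.comp_id, Iso.inv_hom_id_assoc]
  rw [this, CommRingCat.hom_comp, CommRingCat.hom_comp]
  exact ((formallyUnramified_of_ringEquiv V.topIso.symm.commRingCatIsoToRingEquiv).comp hf).comp
    (formallyUnramified_of_ringEquiv U.topIso.commRingCatIsoToRingEquiv)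

section Local

variable {T T' X Y : Scheme.{u}} (t : T ⟶ T') (f : X ⟶ Y) (a : T ⟶ X) (b : T' ⟶ Y)

/-- Uniqueness of local lifts on an open `W` of `T'` whose restricted problem lands in opens
`U`, `V` for which uniqueness of lifts holds. -/
theorem local_lift_unique [Surjective t] (W : T'.Opens) (U : X.Opens) (V : Y.Opens)
    (hUV : U ≤ f ⁻¹ᵁ V) (hWU : t ⁻¹ᵁ W ≤ a ⁻¹ᵁ U)
    (huu : UU (t ∣_ W) (f.resLE V U hUV))
    (g g' : W.toScheme ⟶ X) (h1 : (t ∣_ W) ≫ g = (t ⁻¹ᵁ W).ι ≫ a) (h2 : g ≫ f = W.ι ≫ b)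
    (h1' : (t ∣_ W) ≫ g' = (t ⁻¹ᵁ W).ι ≫ a) (h2' : g' ≫ f = W.ι ≫ b) : g = g' := by
  have hsurj : Function.Surjective (t ∣_ W) := by
    intro w
    obtain ⟨z, hz⟩ := t.surjective w.1
    refine ⟨⟨z, ?_⟩, ?_⟩
    · change t z ∈ W
      rw [hz]; exact w.2
    · apply Subtype.ext
      rw [morphismRestrict_base_coe]
      exact hz
  have hr : ∀ (k : W.toScheme ⟶ X), (t ∣_ W) ≫ k = (t ⁻¹ᵁ W).ι ≫ a →
      Set.range k ⊆ Set.range U.ι := by
    intro k hk
    rintro _ ⟨w, rfl⟩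
    obtain ⟨z, rfl⟩ := hsurj w
    rw [← Scheme.Hom.comp_apply, hk, Scheme.Hom.comp_apply]
    rw [Scheme.Opens.range_ι]
    exact hWU z.2
  have key : ∀ (k : W.toScheme ⟶ X) (hk : (t ∣_ W) ≫ k = (t ⁻¹ᵁ W).ι ≫ a), k ≫ f = W.ι ≫ b →
      (t ∣_ W) ≫ IsOpenImmersion.lift U.ι k (hr k hk) =
        IsOpenImmersion.lift U.ι ((t ⁻¹ᵁ W).ι ≫ a) (by
          rw [← hk]; rintro _ ⟨z, rfl⟩; exact hr k hk ⟨_, rfl⟩) := by
    intro k hk _
    rw [← cancel_mono U.ι]
    simp [hk]
  have e1 := (key g h1 h2).trans (key g' h1' h2').symm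
  have e2 : IsOpenImmersion.lift U.ι g (hr g h1) ≫ f.resLE V U hUV =
      IsOpenImmersion.lift U.ι g' (hr g' h1') ≫ f.resLE V U hUV := by
    rw [← cancel_mono V.ι]
    simp [h2, h2']
  have := huu _ _ e1 e2
  rw [← IsOpenImmersion.lift_fac U.ι g (hr g h1), this, IsOpenImmersion.lift_fac]

/-- Existence and uniqueness of the local lift. -/
theorem local_lift_existsUnique [Surjective t] (w : t ≫ b = a ≫ f)
    (W : T'.Opens) (U : X.Opens) (V : Y.Opens)
    (hUV : U ≤ f ⁻¹ᵁ V) (hWV : W ≤ b ⁻¹ᵁ V) (hWU : t ⁻¹ᵁ W ≤ a ⁻¹ᵁ U)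
    (hul : UL (t ∣_ W) (f.resLE V U hUV)) :
    ∃! g : W.toScheme ⟶ X, (t ∣_ W) ≫ g = (t ⁻¹ᵁ W).ι ≫ a ∧ g ≫ f = W.ι ≫ b := by
  have hra : Set.range ((t ⁻¹ᵁ W).ι ≫ a) ⊆ Set.range U.ι := by
    rintro _ ⟨z, rfl⟩
    rw [Scheme.Hom.comp_apply, Scheme.Opens.range_ι]
    exact hWU z.2
  have hrb : Set.range (W.ι ≫ b) ⊆ Set.range V.ι := by
    rintro _ ⟨z, rfl⟩
    rw [Scheme.Hom.comp_apply, Scheme.Opens.range_ι]
    exact hWV z.2
  obtain ⟨l, ⟨hl1, hl2⟩, -⟩ := hul (IsOpenImmersion.lift U.ι _ hra) (IsOpenImmersion.lift V.ι _ hrb)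
    (by
      rw [← cancel_mono V.ι]
      simp [w])
  have c1 : (t ∣_ W) ≫ (l ≫ U.ι) = (t ⁻¹ᵁ W).ι ≫ a := by
    rw [reassoc_of% hl1, IsOpenImmersion.lift_fac]
  have c2 : (l ≫ U.ι) ≫ f = W.ι ≫ b := by
    rw [Category.assoc, ← Scheme.Hom.resLE_comp_ι f hUV, reassoc_of% hl2,
      IsOpenImmersion.lift_fac]
  refine ⟨l ≫ U.ι, ⟨c1, c2⟩, ?_⟩
  rintro g ⟨hg1, hg2⟩
  exact local_lift_unique t f a b W U V hUV hWU hul.uu _ _ hg1 hg2 c1 c2

end Local


section Glue

variable {T T' X Y : Scheme.{u}} (t : T ⟶ T') (f : X ⟶ Y) (a : T ⟶ X) (b : T' ⟶ Y)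

/-- An open `W` of `T'` is good for the lifting problem `(a, b)` if it is affine and the problem
restricted to `W` lands in affine opens `U ⊆ f⁻¹ V`. -/
def IsGood (W : T'.Opens) : Prop :=
  IsAffineOpen W ∧ ∃ (U : X.Opens) (V : Y.Opens), IsAffineOpen U ∧ IsAffineOpen V ∧
    U ≤ f ⁻¹ᵁ V ∧ W ≤ b ⁻¹ᵁ V ∧ t ⁻¹ᵁ W ≤ a ⁻¹ᵁ U

theorem IsGood.of_le {W W' : T'.Opens} (h : IsGood t f a b W) (hW' : IsAffineOpen W')
    (hle : W' ≤ W) : IsGood t f a b W' := by
  obtain ⟨-, U, V, hU, hV, hUV, hWV, hWU⟩ := h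
  refine ⟨hW', U, V, hU, hV, hUV, hle.trans hWV, ?_⟩
  intro z hz
  exact hWU (hle hz)

theorem exists_isGood [IsClosedImmersion t] [Surjective t] (w : t ≫ b = a ≫ f) (x : T')
    (N : T'.Opens) (hx : x ∈ N) : ∃ W : T'.Opens, IsGood t f a b W ∧ x ∈ W ∧ W ≤ N := by
  obtain ⟨z, rfl⟩ := t.surjective x
  obtain ⟨V, hV, hxV, -⟩ := exists_isAffineOpen_mem_and_subset (x := b (t z)) (U := ⊤) trivial
  have hz : a z ∈ f ⁻¹ᵁ V := by
    change f (a z) ∈ V
    rw [← Scheme.Hom.comp_apply, ← w, Scheme.Hom.comp_apply]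
    exact hxV
  obtain ⟨U, hU, hzU, hUV⟩ := exists_isAffineOpen_mem_and_subset hz
  have hopen : IsOpenMap t :=
    (t.isClosedEmbedding.isEmbedding.toHomeomorphOfSurjective t.surjective).isOpenMap
  let O : T'.Opens := ⟨t '' (a ⁻¹ᵁ U : Set T), hopen _ (a ⁻¹ᵁ U).2⟩
  have hxO : t z ∈ O := ⟨z, hzU, rfl⟩
  obtain ⟨W, hW, hxW, hWN⟩ := exists_isAffineOpen_mem_and_subset
    (x := t z) (U := N ⊓ b ⁻¹ᵁ V ⊓ O) ⟨⟨hx, hxV⟩, hxO⟩
  refine ⟨W, ⟨hW, U, V, hU, hV, hUV, fun y hy => (hWN hy).1.2, ?_⟩, hxW, fun y hy => (hWN hy).1.1⟩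
  intro z' hz'
  obtain ⟨z'', hz'', e⟩ := (hWN hz').2
  rw [← t.isClosedEmbedding.injective e]
  exact hz''


/-- Uniqueness of lifts glues. -/
theorem uu_of_local [IsClosedImmersion t] [Surjective t]
    (hloc : ∀ (W : T'.Opens) (U : X.Opens) (V : Y.Opens), IsAffineOpen W → IsAffineOpen U →
      IsAffineOpen V → ∀ hUV : U ≤ f ⁻¹ᵁ V, UU (t ∣_ W) (f.resLE V U hUV)) : UU t f := by
  intro l l' h1 h2
  apply Scheme.hom_ext_of_forall
  intro x
  obtain ⟨W, ⟨hW, U, V, hU, hV, hUV, hWV, hWU⟩, hxW, -⟩ :=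
    exists_isGood t f (t ≫ l) (l ≫ f) (by simp) x ⊤ trivial
  refine ⟨W, hxW, ?_⟩
  refine local_lift_unique t f (t ≫ l) (l ≫ f) W U V hUV hWU (hloc W U V hW hU hV hUV) _ _
    ?_ ?_ ?_ ?_
  · rw [morphismRestrict_ι_assoc]
  · rw [Category.assoc]
  · rw [morphismRestrict_ι_assoc, h1]
  · rw [Category.assoc, h2]

/-- The open cover of `T'` by good opens. -/
noncomputable def goodCover [IsClosedImmersion t] [Surjective t] (w : t ≫ b = a ≫ f) :
    T'.OpenCover where
  I₀ := {W : T'.Opens // IsGood t f a b W}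
  X W := W.1
  f W := W.1.ι
  mem₀ := by
    rw [Scheme.presieve₀_mem_precoverage_iff]
    refine ⟨fun x => ?_, inferInstance⟩
    obtain ⟨W, hW, hxW, -⟩ := exists_isGood t f a b w x ⊤ trivial
    exact ⟨⟨W, hW⟩, by simpa using hxW⟩


noncomputable instance goodCoverPreorder [IsClosedImmersion t] [Surjective t]
    (w : t ≫ b = a ≫ f) : Preorder (goodCover t f a b w).I₀ :=
  inferInstanceAs <| Preorder {W : T'.Opens // IsGood t f a b W}

noncomputable instance goodCoverLocallyDirected [IsClosedImmersion t] [Surjective t]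
    (w : t ≫ b = a ≫ f) : Scheme.Cover.LocallyDirected (goodCover t f a b w) :=
  .ofIsBasisOpensRange (by intros; simp [goodCover]; rfl) (by
    rw [TopologicalSpace.Opens.isBasis_iff_nbhd]
    intro N x hx
    obtain ⟨W, hW, hxW, hWN⟩ := exists_isGood t f a b w x N hx
    exact ⟨W, ⟨⟨W, hW⟩, by simp [goodCover]⟩, hxW, hWN⟩)


/-- Unique lifting glues. -/
theorem ul_of_local [IsClosedImmersion t] [Surjective t]
    (hloc : ∀ (W : T'.Opens) (U : X.Opens) (V : Y.Opens), IsAffineOpen W → IsAffineOpen U →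
      IsAffineOpen V → ∀ hUV : U ≤ f ⁻¹ᵁ V, UL (t ∣_ W) (f.resLE V U hUV)) : UL t f := by
  intro a b w
  have huu : UU t f := uu_of_local t f fun W U V hW hU hV hUV => (hloc W U V hW hU hV hUV).uu
  have hex : ∀ W : {W : T'.Opens // IsGood t f a b W}, ∃! g : W.1.toScheme ⟶ X,
      (t ∣_ W.1) ≫ g = (t ⁻¹ᵁ W.1).ι ≫ a ∧ g ≫ f = W.1.ι ≫ b := by
    rintro ⟨W, hW, U, V, hU, hV, hUV, hWV, hWU⟩
    exact local_lift_existsUnique t f a b w W U V hUV hWV hWU (hloc W U V hW hU hV hUV)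
  let g : ∀ W : {W : T'.Opens // IsGood t f a b W}, W.1.toScheme ⟶ X := fun W => (hex W).choose
  have hg1 : ∀ W : {W : T'.Opens // IsGood t f a b W}, (t ∣_ W.1) ≫ g W = (t ⁻¹ᵁ W.1).ι ≫ a :=
    fun W => (hex W).choose_spec.1.1
  have hg2 : ∀ W : {W : T'.Opens // IsGood t f a b W}, g W ≫ f = W.1.ι ≫ b :=
    fun W => (hex W).choose_spec.1.2
  have hgu : ∀ (W : {W : T'.Opens // IsGood t f a b W}) (k : W.1.toScheme ⟶ X),
      (t ∣_ W.1) ≫ k = (t ⁻¹ᵁ W.1).ι ≫ a → k ≫ f = W.1.ι ≫ b → k = g W :=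
    fun W k h1 h2 => (hex W).choose_spec.2 k ⟨h1, h2⟩
  have compat : ∀ (i j : {W : T'.Opens // IsGood t f a b W}) (hle : i.1 ≤ j.1),
      T'.homOfLE hle ≫ g j = g i := by
    intro i j hle
    have hpre : t ⁻¹ᵁ i.1 ≤ t ⁻¹ᵁ j.1 := fun z hz => hle hz
    have e0 : (t ∣_ i.1) ≫ T'.homOfLE hle = T.homOfLE hpre ≫ (t ∣_ j.1) := by
      rw [← cancel_mono j.1.ι]
      simp only [Category.assoc, Scheme.homOfLE_ι, morphismRestrict_ι, Scheme.homOfLE_ι_assoc]
    apply hgu
    · rw [reassoc_of% e0, hg1, Scheme.homOfLE_ι_assoc]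
    · rw [Category.assoc, hg2, Scheme.homOfLE_ι_assoc]
  let l : T' ⟶ X := (goodCover t f a b w).glueMorphismsOfLocallyDirected (fun W => g W)
    (fun {i j} hij => compat i j (leOfHom hij))
  have hl : ∀ W : {W : T'.Opens // IsGood t f a b W}, W.1.ι ≫ l = g W := fun W =>
    (goodCover t f a b w).map_glueMorphismsOfLocallyDirected (fun W => g W)
      (fun {i j} hij => compat i j (leOfHom hij)) W
  have hl1 : t ≫ l = a := by
    apply Scheme.hom_ext_of_forall
    intro z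
    obtain ⟨W, hW, hxW, -⟩ := exists_isGood t f a b w (t z) ⊤ trivial
    refine ⟨t ⁻¹ᵁ W, hxW, ?_⟩
    rw [← morphismRestrict_ι_assoc, hl ⟨W, hW⟩, hg1 ⟨W, hW⟩]
  have hl2 : l ≫ f = b := by
    apply Scheme.hom_ext_of_forall
    intro x
    obtain ⟨W, hW, hxW, -⟩ := exists_isGood t f a b w x ⊤ trivial
    refine ⟨W, hxW, ?_⟩
    rw [reassoc_of% hl ⟨W, hW⟩, hg2 ⟨W, hW⟩]
  refine ⟨l, ⟨hl1, hl2⟩, ?_⟩
  rintro m ⟨hm1, hm2⟩
  exact huu m l (hm1.trans hl1.symm) (hm2.trans hl2.symm)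

end Glue


section Main

variable {T T' X Y : Scheme.{u}}

/-- Affine-local formal etaleness of a morphism of schemes. -/
def LocFEt (f : X ⟶ Y) : Prop :=
  ∀ (U : X.Opens) (V : Y.Opens), IsAffineOpen U → IsAffineOpen V → ∀ hUV : U ≤ f ⁻¹ᵁ V,
    (f.appLE V U hUV).hom.FormallyEtale

/-- Affine-local formal unramifiedness of a morphism of schemes. -/
def LocFUnr (f : X ⟶ Y) : Prop :=
  ∀ (U : X.Opens) (V : Y.Opens), IsAffineOpen U → IsAffineOpen V → ∀ hUV : U ≤ f ⁻¹ᵁ V,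
    (f.appLE V U hUV).hom.FormallyUnramified

/-- Affine-locally formally etale morphisms lift uniquely along first order thickenings. -/
theorem ul_of_locFEt {f : X ⟶ Y} (hf : LocFEt f) (t : T ⟶ T') [IsClosedImmersion t]
    [Surjective t] (hk : t.ker * t.ker = ⊥) : UL t f :=
  ul_of_local t f fun W U V hW hU hV hUV => by
    haveI : IsAffine W.toScheme := hW
    haveI : IsAffine (t ⁻¹ᵁ W).toScheme := hW.preimage t
    haveI : IsAffine U.toScheme := hU
    haveI : IsAffine V.toScheme := hV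
    obtain ⟨h1, h2⟩ := sqZero_restrict t hk W hW
    exact ul_of_isAffine (t ∣_ W) (f.resLE V U hUV) h1 h2
      (formallyEtale_resLE_appTop f U V hUV (hf U V hU hV hUV))

/-- Affine-locally formally unramified morphisms have at most one lift along first order
thickenings. -/
theorem uu_of_locFUnr {f : X ⟶ Y} (hf : LocFUnr f) (t : T ⟶ T') [IsClosedImmersion t]
    [Surjective t] (hk : t.ker * t.ker = ⊥) : UU t f :=
  uu_of_local t f fun W U V hW hU hV hUV => by
    haveI : IsAffine W.toScheme := hW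
    haveI : IsAffine (t ⁻¹ᵁ W).toScheme := hW.preimage t
    haveI : IsAffine U.toScheme := hU
    haveI : IsAffine V.toScheme := hV
    obtain ⟨h1, h2⟩ := sqZero_restrict t hk W hW
    exact uu_of_isAffine (t ∣_ W) (f.resLE V U hUV) h1 h2
      (formallyUnramified_resLE_appTop f U V hUV (hf U V hU hV hUV))

/-- `Spec (A ⧸ I) ⟶ Spec A` is surjective when `I ^ 2 = 0`. -/
theorem surjective_spec_quot {A : Type u} [CommRing A] (I : Ideal A) (hI : I ^ 2 = ⊥) :
    Surjective (Spec.map (CommRingCat.ofHom (Ideal.Quotient.mk I))) := by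
  constructor
  intro p
  have hIp : I ≤ p.asIdeal := by
    intro x hx
    have h2 : x ^ 2 ∈ I ^ 2 := Ideal.pow_mem_pow hx 2
    rw [hI, Submodule.mem_bot] at h2
    exact p.isPrime.mem_of_pow_mem 2 (by rw [h2]; exact zero_mem _)
  have : p ∈ Set.range (PrimeSpectrum.comap (Ideal.Quotient.mk I)) := by
    rw [_root_.range_comap_of_surjective _ _ Ideal.Quotient.mk_surjective,
      Ideal.mk_ker]
    exact hIp
  obtain ⟨q, hq⟩ := this
  exact ⟨q, hq⟩

/-- The kernel of `Spec (A ⧸ I) ⟶ Spec A` has square zero when `I ^ 2 = 0`. -/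
theorem ker_spec_quot_sq {A : Type u} [CommRing A] (I : Ideal A) (hI : I ^ 2 = ⊥) :
    (Spec.map (CommRingCat.ofHom (Ideal.Quotient.mk I))).ker *
      (Spec.map (CommRingCat.ofHom (Ideal.Quotient.mk I))).ker = ⊥ := by
  apply Scheme.IdealSheafData.ext_of_isAffine
  rw [Scheme.IdealSheafData.ideal_mul, Pi.mul_apply, Scheme.IdealSheafData.ideal_bot,
    Pi.bot_apply, Scheme.Hom.ker_apply, ← le_bot_iff, Ideal.mul_le]
  intro x hx y hy
  rw [Submodule.mem_bot]
  have key : ∀ z : Γ(Spec (CommRingCat.of A), ⊤),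
      z ∈ RingHom.ker ((Spec.map (CommRingCat.ofHom (Ideal.Quotient.mk I))).app ⊤).hom →
        (Scheme.ΓSpecIso (CommRingCat.of A)).hom.hom z ∈ I := by
    intro z hz
    have h1 := congr($(Scheme.ΓSpecIso_naturality (CommRingCat.ofHom (Ideal.Quotient.mk I))).hom z)
    simp only [CommRingCat.hom_comp, RingHom.comp_apply] at h1
    rw [RingHom.mem_ker] at hz
    change ((Spec.map (CommRingCat.ofHom (Ideal.Quotient.mk I))).appTop).hom z = 0 at hz
    rw [hz, map_zero] at h1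
    exact Ideal.Quotient.eq_zero_iff_mem.1 h1.symm
  have h3 : (Scheme.ΓSpecIso (CommRingCat.of A)).hom.hom (x * y) ∈ I ^ 2 := by
    rw [map_mul, pow_two]
    exact Ideal.mul_mem_mul (key x hx) (key y hy)
  rw [hI, Submodule.mem_bot] at h3
  have hinj : Function.Injective (Scheme.ΓSpecIso (CommRingCat.of A)).hom.hom :=
    (ConcreteCategory.bijective_of_isIso _).1
  exact hinj (by rw [h3, map_zero])

end Main

end Groth.Agent.Helper2.FormalLib
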