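import Mathlib
import Groth.Prelude.Def_MoreMor
import Groth.Agent.Lib.Helper2.Formal.EtaleLift

/-!
# Formally etale morphisms of schemes (lifting sense) and affine-local formal etaleness
-/

universe u

open AlgebraicGeometry CategoryTheory

namespace Groth.Agent.Helper2.FormalLib

variable {T T' X Y : Scheme.{u}}

theorem isFormallyEtaleHom_iff_ul (f : X ⟶ Y) :
    MoreMor.IsFormallyEtaleHom f ↔ ∀ (A : Type u) [CommRing A] (I : Ideal A), I ^ 2 = ⊥ →
      UL (Spec.map (CommRingCat.ofHom (Ideal.Quotient.mk I))) f :=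
  Iff.rfl

/-- Restriction of unique lifting to opens. -/
theorem UL.resLE {t : T ⟶ T'} {f : X ⟶ Y} [Surjective t] (h : UL t f) (U : X.Opens)
    (V : Y.Opens) (hUV : U ≤ f ⁻¹ᵁ V) : UL t (f.resLE V U hUV) := by
  intro a b w
  obtain ⟨l, ⟨hl1, hl2⟩, hlu⟩ := h (a ≫ U.ι) (b ≫ V.ι) (by
    rw [reassoc_of% w, Scheme.Hom.resLE_comp_ι, Category.assoc])
  have hr : Set.range l ⊆ Set.range U.ι := by
    rintro _ ⟨x, rfl⟩
    obtain ⟨z, rfl⟩ := t.surjective x
    rw [← Scheme.Hom.comp_apply, hl1, Scheme.Hom.comp_apply]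
    exact ⟨_, rfl⟩
  refine ⟨IsOpenImmersion.lift U.ι l hr, ⟨?_, ?_⟩, ?_⟩
  · rw [← cancel_mono U.ι]
    simp [hl1]
  · rw [← cancel_mono V.ι]
    simp [hl2]
  · rintro m ⟨hm1, hm2⟩
    rw [← cancel_mono U.ι, IsOpenImmersion.lift_fac]
    apply hlu
    refine ⟨by rw [reassoc_of% hm1], ?_⟩
    rw [Category.assoc, ← Scheme.Hom.resLE_comp_ι f hUV, reassoc_of% hm2]

/-- Restriction of uniqueness of lifts to opens. -/
theorem UU.resLE {t : T ⟶ T'} {f : X ⟶ Y} (h : UU t f) (U : X.Opens)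
    (V : Y.Opens) (hUV : U ≤ f ⁻¹ᵁ V) : UU t (f.resLE V U hUV) := by
  intro l l' h1 h2
  rw [← cancel_mono U.ι]
  apply h
  · rw [reassoc_of% h1]
  · rw [Category.assoc, Category.assoc, ← Scheme.Hom.resLE_comp_ι f hUV, reassoc_of% h2]

theorem locFEt_of_isFormallyEtaleHom {f : X ⟶ Y} (hf : MoreMor.IsFormallyEtaleHom f) :
    LocFEt f := by
  intro U V hU hV hUV
  apply formallyEtale_appLE_of_resLE
  apply formallyEtale_of_ul_spec
  intro A _ I hI
  haveI : IsAffine U.toScheme := hU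
  haveI : IsAffine V.toScheme := hV
  haveI := surjective_spec_quot I hI
  have h0 := ((isFormallyEtaleHom_iff_ul f).1 hf A I hI).resLE U V hUV
  have h1 := h0.of_iso_right U.toScheme.isoSpec.symm V.toScheme.isoSpec
  have e : U.toScheme.isoSpec.symm.hom ≫ f.resLE V U hUV ≫ V.toScheme.isoSpec.hom =
      Spec.map (CommRingCat.ofHom (f.resLE V U hUV).appTop.hom) := by
    rw [CommRingCat.ofHom_hom, ← Scheme.isoSpec_hom_naturality]
    simp
  rwa [e] at h1

theorem isFormallyEtaleHom_of_locFEt {f : X ⟶ Y} (hf : LocFEt f) :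
    MoreMor.IsFormallyEtaleHom f := by
  rw [isFormallyEtaleHom_iff_ul]
  intro A _ I hI
  haveI := surjective_spec_quot I hI
  haveI : IsClosedImmersion (Spec.map (CommRingCat.ofHom (Ideal.Quotient.mk I))) :=
    IsClosedImmersion.spec_of_surjective _ Ideal.Quotient.mk_surjective
  exact ul_of_locFEt hf _ (ker_spec_quot_sq I hI)

theorem isFormallyEtaleHom_iff_locFEt (f : X ⟶ Y) : MoreMor.IsFormallyEtaleHom f ↔ LocFEt f :=
  ⟨locFEt_of_isFormallyEtaleHom, isFormallyEtaleHom_of_locFEt⟩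

/-- Formally etale morphisms lift uniquely along all first order thickenings of schemes. -/
theorem ul_of_isFormallyEtaleHom {f : X ⟶ Y} (hf : MoreMor.IsFormallyEtaleHom f) (t : T ⟶ T')
    (ht : MoreMor.IsFirstOrderThickening t) : UL t f := by
  obtain ⟨⟨h1, h2⟩, h3⟩ := ht
  haveI := h1
  haveI := h2
  exact ul_of_locFEt (locFEt_of_isFormallyEtaleHom hf) t h3


/-- The (existence-only) lifting property of `f` against `t`. -/
def EL {T T' X Y : Scheme.{u}} (t : T ⟶ T') (f : X ⟶ Y) : Prop :=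
  ∀ (a : T ⟶ X) (b : T' ⟶ Y), t ≫ b = a ≫ f → ∃ l : T' ⟶ X, t ≫ l = a ∧ l ≫ f = b

theorem isFormallySmoothHom_iff_el (f : X ⟶ Y) :
    MoreMor.IsFormallySmoothHom f ↔ ∀ (A : Type u) [CommRing A] (I : Ideal A), I ^ 2 = ⊥ →
      EL (Spec.map (CommRingCat.ofHom (Ideal.Quotient.mk I))) f :=
  Iff.rfl

/-- Restriction of lifting to opens. -/
theorem EL.resLE {t : T ⟶ T'} {f : X ⟶ Y} [Surjective t] (h : EL t f) (U : X.Opens)
    (V : Y.Opens) (hUV : U ≤ f ⁻¹ᵁ V) : EL t (f.resLE V U hUV) := by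
  intro a b w
  obtain ⟨l, hl1, hl2⟩ := h (a ≫ U.ι) (b ≫ V.ι) (by
    rw [reassoc_of% w, Scheme.Hom.resLE_comp_ι, Category.assoc])
  have hr : Set.range l ⊆ Set.range U.ι := by
    rintro _ ⟨x, rfl⟩
    obtain ⟨z, rfl⟩ := t.surjective x
    rw [← Scheme.Hom.comp_apply, hl1, Scheme.Hom.comp_apply]
    exact ⟨_, rfl⟩
  refine ⟨IsOpenImmersion.lift U.ι l hr, ?_, ?_⟩
  · rw [← cancel_mono U.ι]
    simp [hl1]
  · rw [← cancel_mono V.ι]
    simp [hl2]


theorem locFEt_of_etale (g : X ⟶ Y) [Etale g] : LocFEt g := by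
  intro U V hU hV hUV
  have := (g.etale_appLE hV hU hUV).toAlgebra
  exact this.formallyEtale

theorem locFUnr_of_formallyUnramified (g : X ⟶ Y) [FormallyUnramified g] : LocFUnr g :=
  fun _ _ hU hV hUV => g.formallyUnramified_appLE hV hU hUV

theorem formallyUnramified_of_locFUnr {g : X ⟶ Y} (h : LocFUnr g) : FormallyUnramified g :=
  ⟨fun {V} hV {U} hU e => h U V hU hV e⟩

/-- A morphism with unique lifts against all `Spec (A ⧸ I) ⟶ Spec A`, `I ^ 2 = 0`, is formally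
unramified. -/
theorem formallyUnramified_of_uu {g : X ⟶ Y}
    (h : ∀ (A : Type u) [CommRing A] (I : Ideal A), I ^ 2 = ⊥ →
      UU (Spec.map (CommRingCat.ofHom (Ideal.Quotient.mk I))) g) : FormallyUnramified g := by
  apply formallyUnramified_of_locFUnr
  intro U V hU hV hUV
  apply formallyUnramified_appLE_of_resLE
  apply formallyUnramified_of_uu_spec
  intro A _ I hI
  haveI : IsAffine U.toScheme := hU
  haveI : IsAffine V.toScheme := hV
  have h0 := (h A I hI).resLE U V hUV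
  have h1 := h0.of_iso_right U.toScheme.isoSpec.symm V.toScheme.isoSpec
  have e : U.toScheme.isoSpec.symm.hom ≫ g.resLE V U hUV ≫ V.toScheme.isoSpec.hom =
      Spec.map (CommRingCat.ofHom (g.resLE V U hUV).appTop.hom) := by
    rw [CommRingCat.ofHom_hom, ← Scheme.isoSpec_hom_naturality]
    simp
  rwa [e] at h1

end Groth.Agent.Helper2.FormalLib
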