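import Mathlib

/-!
# Lifting standard etale algebras along square zero extensions
-/

namespace Groth.Agent.Helper2.FormalLib
open Polynomial TensorProduct
universe u

/-- A standard etale pair over `A ⧸ I` with `I ^ 2 = ⊥` lifts to a standard etale pair over `A`. -/
theorem exists_standardEtalePair_lift {A : Type u} [CommRing A] (I : Ideal A) (hI : I ^ 2 = ⊥)
    (P₀ : StandardEtalePair (A ⧸ I)) :
    ∃ P : StandardEtalePair A, P.map (Ideal.Quotient.mk I) = P₀ := by
  obtain ⟨f₀, hf₀, g₀, p₁₀, p₂₀, n, hc⟩ := P₀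
  have hsurj : Function.Surjective (Polynomial.map (Ideal.Quotient.mk I)) :=
    Polynomial.map_surjective _ Ideal.Quotient.mk_surjective
  obtain ⟨f, hf, -, hfm⟩ := Polynomial.lifts_and_natDegree_eq_and_monic
    ((Polynomial.mem_lifts _).2 (hsurj f₀)) hf₀
  obtain ⟨g, hg⟩ := hsurj g₀
  obtain ⟨p₁, hp₁⟩ := hsurj p₁₀
  obtain ⟨p₂, hp₂⟩ := hsurj p₂₀
  have hmem : derivative f * p₁ + f * p₂ - g ^ n ∈
      RingHom.ker (Polynomial.mapRingHom (Ideal.Quotient.mk I)) := by
    rw [RingHom.mem_ker, Polynomial.coe_mapRingHom, Polynomial.map_sub, Polynomial.map_add,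
      Polynomial.map_mul, Polynomial.map_mul, Polynomial.map_pow, ← Polynomial.derivative_map,
      hf, hg, hp₁, hp₂, hc, sub_self]
  rw [Polynomial.ker_mapRingHom, Ideal.mk_ker] at hmem
  have hee : (derivative f * p₁ + f * p₂ - g ^ n) * (derivative f * p₁ + f * p₂ - g ^ n) = 0 := by
    have : (derivative f * p₁ + f * p₂ - g ^ n) ^ 2 ∈ (I.map (C : A →+* A[X])) ^ 2 :=
      Ideal.pow_mem_pow hmem 2
    rw [← Ideal.map_pow, hI, Ideal.map_bot, Ideal.mem_bot] at this
    rw [← pow_two]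
    exact this
  refine ⟨⟨f, hfm, g, p₁ * (g ^ n - (derivative f * p₁ + f * p₂ - g ^ n)),
    p₂ * (g ^ n - (derivative f * p₁ + f * p₂ - g ^ n)), 2 * n, ?_⟩, ?_⟩
  · linear_combination (-1 : A[X]) * hee
  · simp only [StandardEtalePair.map, hf, hg]

/-- A standard etale algebra over `A ⧸ I` with `I ^ 2 = ⊥` is the reduction of an etale
`A`-algebra. -/
theorem exists_etale_lift_of_pair {A : Type u} [CommRing A] (I : Ideal A) (hI : I ^ 2 = ⊥)
    (P₀ : StandardEtalePair (A ⧸ I)) :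
    ∃ (B : Type u) (_ : CommRing B) (_ : Algebra A B), Algebra.Etale A B ∧
      Nonempty ((B ⧸ I.map (algebraMap A B)) ≃ₐ[A ⧸ I] P₀.Ring) := by
  obtain ⟨P, rfl⟩ := exists_standardEtalePair_lift I hI P₀
  refine ⟨P.Ring, inferInstance, inferInstance, inferInstance, ⟨?_⟩⟩
  let Pres : StandardEtalePresentation A P.Ring :=
    ⟨P, P.X, P.hasMap_X, by simpa [StandardEtalePair.lift_X_left] using Function.bijective_id⟩
  exact (Algebra.TensorProduct.quotIdealMapEquivQuotTensor P.Ring I).trans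
    (Pres.baseChange (T := A ⧸ I)).equivRing

/-- A standard etale algebra over `A ⧸ I` with `I ^ 2 = ⊥` is the reduction of an etale
`A`-algebra. -/
theorem exists_etale_lift_of_isStandardEtale {A : Type u} [CommRing A] (I : Ideal A)
    (hI : I ^ 2 = ⊥) (C : Type u) [CommRing C] [Algebra (A ⧸ I) C]
    [Algebra.IsStandardEtale (A ⧸ I) C] :
    ∃ (B : Type u) (_ : CommRing B) (_ : Algebra A B), Algebra.Etale A B ∧
      Nonempty ((B ⧸ I.map (algebraMap A B)) ≃ₐ[A ⧸ I] C) := by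
  have Pres : StandardEtalePresentation (A ⧸ I) C :=
    Algebra.IsStandardEtale.nonempty_standardEtalePresentation.some
  obtain ⟨B, i1, i2, h1, ⟨e⟩⟩ := exists_etale_lift_of_pair I hI Pres.P
  exact ⟨B, i1, i2, h1, ⟨e.trans Pres.equivRing.symm⟩⟩

end Groth.Agent.Helper2.FormalLib
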