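import Mathlib
import Groth.Agent.Lib.Helper2.Formal.EtaleStd

/-!
# Local lifting of etale morphisms along square zero thickenings of affine schemes
-/

namespace Groth.Agent.Helper2.FormalLib
open CategoryTheory CategoryTheory.Limits AlgebraicGeometry
universe u

/-- Etale schemes over `Spec (A ⧸ I)` lift locally to etale schemes over `Spec A` when
`I ^ 2 = ⊥`. -/
theorem exists_etale_lift_nbhd {A : Type u} [CommRing A] (I : Ideal A) (hI : I ^ 2 = ⊥)
    {U₀ : Scheme.{u}} (p₀ : U₀ ⟶ Spec (CommRingCat.of (A ⧸ I))) [Etale p₀] (u : U₀) :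
    ∃ (B : Type u) (_ : CommRing B) (φ : A →+* B)
      (ι : Spec (CommRingCat.of (B ⧸ I.map φ)) ⟶ U₀),
      Etale (Spec.map (CommRingCat.ofHom φ)) ∧ IsOpenImmersion ι ∧
      ι ≫ p₀ = Spec.map (CommRingCat.ofHom (Ideal.quotientMap (I.map φ) φ Ideal.le_comap_map)) ∧
      u ∈ Set.range ι := by
  let 𝒲 := U₀.affineOpenCover
  obtain ⟨q, hq⟩ := 𝒲.covers u
  let ψ₀ : (A ⧸ I) →+* (𝒲.X (𝒲.idx u) : Type u) := (Spec.preimage (𝒲.f (𝒲.idx u) ≫ p₀)).hom
  have hψ₀ : Spec.map (CommRingCat.ofHom ψ₀) = 𝒲.f (𝒲.idx u) ≫ p₀ := by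
    rw [CommRingCat.ofHom_hom, Spec.map_preimage]
  have het : ψ₀.Etale := by
    have : Etale (Spec.map (CommRingCat.ofHom ψ₀)) := by rw [hψ₀]; infer_instance
    exact (HasRingHomProperty.Spec_iff (P := @Etale)).1 this
  algebraize [ψ₀]
  haveI : q.asIdeal.IsPrime := q.isPrime
  obtain ⟨f₁, hf₁, hstd⟩ := Algebra.IsEtaleAt.exists_isStandardEtale (R := A ⧸ I) q.asIdeal
  obtain ⟨B, iB, iAB, hB, ⟨e⟩⟩ :=
    exists_etale_lift_of_isStandardEtale I hI (Localization.Away f₁)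
  let ε : Spec (CommRingCat.of (B ⧸ I.map (algebraMap A B))) ⟶
      Spec (CommRingCat.of (Localization.Away f₁)) :=
    Spec.map (CommRingCat.ofHom (e.symm : Localization.Away f₁ →+* (B ⧸ I.map (algebraMap A B))))
  let loc : Spec (CommRingCat.of (Localization.Away f₁)) ⟶ Spec (𝒲.X (𝒲.idx u)) :=
    Spec.map (CommRingCat.ofHom (algebraMap (𝒲.X (𝒲.idx u)) (Localization.Away f₁)))
  haveI : IsIso ε := by
    have : IsIso (CommRingCat.ofHom
        (e.symm : Localization.Away f₁ →+* (B ⧸ I.map (algebraMap A B)))) :=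
      (e.symm.toRingEquiv.toCommRingCatIso).isIso_hom
    infer_instance
  refine ⟨B, iB, algebraMap A B, ε ≫ loc ≫ 𝒲.f (𝒲.idx u), ?_, ?_, ?_, ?_⟩
  · exact (HasRingHomProperty.Spec_iff (P := @Etale)).2
      (RingHom.etale_algebraMap.2 hB)
  · have : IsOpenImmersion loc :=
      Scheme.isOpenImmersion_SpecMap_localizationAway (R := 𝒲.X (𝒲.idx u)) f₁
    infer_instance
  · have h1 : (ε ≫ loc ≫ 𝒲.f (𝒲.idx u)) ≫ p₀ = ε ≫ loc ≫ Spec.map (CommRingCat.ofHom ψ₀) :=
      (Category.assoc _ _ _).trans ((congrArg (ε ≫ ·) (Category.assoc _ _ _)).trans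
        (congrArg (fun m => ε ≫ loc ≫ m) hψ₀.symm))
    rw [h1]
    dsimp only [ε, loc]
    rw [← Spec.map_comp, ← Spec.map_comp]
    congr 1
    ext x
    change e.symm (algebraMap _ (Localization.Away f₁) (algebraMap (A ⧸ I) _ x)) = _
    rw [← IsScalarTower.algebraMap_apply, e.symm.commutes]
    rfl
  · have hq' : q ∈ Set.range
        (PrimeSpectrum.comap (algebraMap (𝒲.X (𝒲.idx u)) (Localization.Away f₁))) := by
      rw [PrimeSpectrum.localization_away_comap_range (Localization.Away f₁) f₁]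
      exact hf₁
    obtain ⟨q', hq'⟩ := hq'
    obtain ⟨q'', hq''⟩ := ε.surjective q'
    refine ⟨q'', ?_⟩
    rw [Scheme.Hom.comp_apply, Scheme.Hom.comp_apply, hq'']
    have : loc q' = q := hq'
    rw [this, hq]

end Groth.Agent.Helper2.FormalLib
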